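import Cfsg.Agent.H345.K4.CentArg
import Cfsg.Agent.H921.K4.Uniq_m3
import Cfsg.Agent.H825.HT.Tools
import Cfsg.Agent.Blocks.ExistsModular
import Cfsg.Agent.S0902
import Cfsg.Agent.S0165
import Cfsg.Agent.Prune
set_option linter.all false

section
prune_inst 0x7f00000000000000000000000000000000000000000000000000000000000000000000000000000000000000000000000000000000000000000000000000000000000000000000000000000000000000003fffffffffffffffffffffffffffbeffbdffffffff

-- part: H740/K4/Bridge
section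
set_option linter.all false
open scoped Cfsg.Agent.FastGrp

/-!
# From real `σ`-fixed characters to the interface of TEAM K4 (helper740)

* `exists_cube` : a finite group has an exponent `k` with the cubing property;
* `good_of` : `H740.K4.Good k χ` gives `H601.K4.Good χ`;
* `exists_good_of_real` : a character of odd degree, real and `σ`-fixed (for instance rational) contains a
  `Good` irreducible character with odd multiplicity;
* `good5_of` : five of them.
-/

set_option autoImplicit false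

open scoped ComplexConjugate
open Cfsg Cfsg.Agent.Characters.Core Cfsg.Agent.H618.Sigma

namespace Cfsg.Agent.H740.K4

universe u

variable {G : Type u} [Group G] {k : ℕ}

/-- **A cubing exponent exists.** -/
theorem exists_cube (G : Type u) [Group G] [Finite G] : ∃ k : ℕ, Cube G k := by
  have hn : Nat.card G ≠ 0 := Nat.card_pos.ne'
  obtain ⟨a, m, hm, he⟩ := Nat.exists_eq_two_pow_mul_odd hn
  have hc : Nat.Coprime (2 ^ a) m := Nat.Coprime.pow_left _ (Nat.coprime_two_left.2 hm)
  obtain ⟨k, hk1, hk2⟩ := Nat.chineseRemainder hc 3 1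
  refine ⟨k, fun g hg => ?_, fun g hg => ?_⟩
  · obtain ⟨j, hj⟩ := hg
    apply pow_eq_pow_iff_modEq.2
    apply hk1.of_dvd
    have h1 : orderOf g ∣ 2 ^ a * m := he ▸ orderOf_dvd_natCard g
    rw [hj] at h1 ⊢
    exact Nat.Coprime.dvd_of_dvd_mul_right (Nat.Coprime.pow_left _ (Nat.coprime_two_left.2 hm)) h1
  · have h1 : g ^ k = g ^ 1 := by
      apply pow_eq_pow_iff_modEq.2
      apply hk2.of_dvd
      have h1 : orderOf g ∣ 2 ^ a * m := he ▸ orderOf_dvd_natCard g
      exact Nat.Coprime.dvd_of_dvd_mul_left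
        (Nat.Coprime.pow_right _ (Nat.coprime_two_right.2 hg)) h1
    rw [h1, pow_one]

theorem pow_eq_of_cube [Finite G] (h : Cube G k) {k' : ℕ} (h' : Cube G k') (g : G) : g ^ k' = g ^ k := by
  obtain ⟨x, y, rfl, hxy, hx, hy⟩ := exists_decomp g
  rw [hxy.mul_pow, hxy.mul_pow, h.two x hx, h'.two x hx, h.odd y hy, h'.odd y hy]

/-- From one exponent to all. -/
theorem sigFix_of [Finite G] (h : Cube G k) {χ : G → ℂ} (hχ : ∀ g : G, χ (g ^ k) = χ g) : H601.K4.SigFix χ := by
  intro k' h2 h3 g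
  rw [pow_eq_of_cube h ⟨h2, h3⟩ g, hχ]

theorem oddIrr_of {χ : G → ℂ} (hχ : IsIrrCharacter G χ) (hodd : Odd (charDegree χ)) : H601.K4.OddIrr χ :=
  ⟨hχ, odd_iff.1 hodd⟩

/-- **The bridge.** -/
theorem good_of [Finite G] (h : Cube G k) {χ : G → ℂ} (hχ : IsIrrCharacter G χ) (hg : Good k χ) :
    H601.K4.Good χ where
  odd := oddIrr_of hχ hg.2.1
  sig := sigFix_of h hg.2.2
  b0 := H601.K4.InB0.of_real (oddIrr_of hχ hg.2.1) hg.1

/-- A rational-valued irreducible character of odd degree is good. -/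
theorem good_of_rat [Finite G] {χ : G → ℂ} (hχ : IsIrrCharacter G χ) (hq : ∀ g : G, ∃ q : ℚ, χ g = q)
    (hodd : Odd (charDegree χ)) : H601.K4.Good χ := by
  obtain ⟨k, hk⟩ := exists_cube G
  exact good_of hk hχ (Good.of_rat hk hχ hq hodd)

/-- the trivial character is good -/
theorem good_one' [Finite G] : H601.K4.Good (fun _ : G => (1 : ℂ)) := by
  obtain ⟨k, hk⟩ := exists_cube G
  exact good_of hk Cfsg.Agent.Blocks.Basic.isIrrCharacter_one (good_one hk)

theorem rat_pow [Finite G] {k : ℕ} (h : Cube G k) {Ψ : G → ℂ} (hΨ : IsCharacter G Ψ)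
    (hq : ∀ g : G, ∃ q : ℚ, Ψ g = q) (g : G) : Ψ (g ^ k) = Ψ g := by
  obtain ⟨σ, hσ⟩ := Cfsg.Agent.Characters.GaloisBasic.exists_ringEquiv_of_coprime h.coprime
  obtain ⟨q, hq⟩ := hq g
  rw [← hσ Ψ hΨ g, hq, map_ratCast]

/-- **A rational-valued character of odd degree contains a good irreducible character.** -/
theorem exists_good_of_rat [Fintype G] {Ψ : G → ℂ} (hΨ : IsCharacter G Ψ) {n : ℕ} (hn : Ψ 1 = n) (hodd : Odd n)
    (hq : ∀ g : G, ∃ q : ℚ, Ψ g = q) :
    ∃ χ : G → ℂ, H601.K4.Good χ ∧ (∀ g, (χ g).im = 0) ∧ ∃ m : ℕ, Odd m ∧ classInner Ψ χ = m := by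
  obtain ⟨k, hk⟩ := exists_cube G
  obtain ⟨χ, h1, h2⟩ := exists_good hk hΨ hn hodd (fun g => by
    obtain ⟨q, hq⟩ := hq g
    rw [hq]
    exact Complex.ratCast_im q) (rat_pow hk hΨ hq)
  exact ⟨χ, good_of hk χ.2 h1, h1.1, mul Ψ χ, h2, mul_spec hΨ χ⟩

/-- Five different good characters. -/
theorem good5_of {χ₀ χ₁ χ₂ χ₃ χ₄ : G → ℂ} (h0 : H601.K4.Good χ₀) (h1 : H601.K4.Good χ₁) (h2 : H601.K4.Good χ₂)
    (h3 : H601.K4.Good χ₃) (h4 : H601.K4.Good χ₄) (h01 : χ₀ ≠ χ₁) (h02 : χ₀ ≠ χ₂) (h03 : χ₀ ≠ χ₃) (h04 : χ₀ ≠ χ₄)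
    (h12 : χ₁ ≠ χ₂) (h13 : χ₁ ≠ χ₃) (h14 : χ₁ ≠ χ₄) (h23 : χ₂ ≠ χ₃) (h24 : χ₂ ≠ χ₄) (h34 : χ₃ ≠ χ₄) :
    H601.K4.Good5 G := by
  refine ⟨![χ₀, χ₁, χ₂, χ₃, χ₄], ?_, ?_⟩
  · intro i j hij
    fin_cases i <;> fin_cases j <;> simp_all
  · intro i
    fin_cases i <;> assumption

/-- An isomorphism. -/
theorem Good.mulEquiv {S T : Type*} [Group S] [Group T] [Finite S] [Finite T] (e : T ≃* S) {χ : S → ℂ}
    (h : H601.K4.Good χ) (hr : ∀ g, (χ g).im = 0) : H601.K4.Good (fun t => χ (e t)) := by
  obtain ⟨k, hk⟩ := exists_cube T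
  have hi : IsIrrCharacter T (fun t => χ (e t)) := isIrr_comp e.toMonoidHom e.surjective h.odd.1
  have hd : charDegree (fun t => χ (e t)) = charDegree χ := by
    unfold charDegree
    simp only [map_one]
  refine good_of hk hi ⟨fun g => hr _, ?_, fun g => ?_⟩
  · rw [hd]
    exact odd_iff.2 h.odd.2
  · have h1 := h.sig k (fun s hs => ?_) (fun s hs => ?_) (e g)
    · show χ (e (g ^ k)) = χ (e g)
      rw [map_pow, h1]
    · have h2 := hk.two (e.symm s) (by rwa [MulEquiv.orderOf_eq])
      have h3 := congrArg e h2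
      rwa [map_pow, map_pow, e.apply_symm_apply] at h3
    · have h2 := hk.odd (e.symm s) (by rwa [MulEquiv.orderOf_eq])
      have h3 := congrArg e h2
      rwa [map_pow, e.apply_symm_apply] at h3

end Cfsg.Agent.H740.K4
end

-- part: H740/K4/Equiv
section
set_option linter.all false
open scoped Cfsg.Agent.FastGrp

/-!
# Transport of `Good5` (helper740)

`good5_of_equiv` : `Good5 S` and `T ≃* S` give `Good5 T`.
-/

set_option autoImplicit false

open Cfsg Cfsg.Agent.Characters.Core Cfsg.Agent.H618.Sigma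

namespace Cfsg.Agent.H740.K4

universe u v

variable {S : Type u} [Group S] {T : Type v} [Group T]

theorem oddIrr_comp (e : T ≃* S) {χ : S → ℂ} (h : H601.K4.OddIrr χ) : H601.K4.OddIrr (fun t => χ (e t)) := by
  refine ⟨isIrr_comp e.toMonoidHom e.surjective h.1, ?_⟩
  have hd : charDegree (fun t => χ (e t)) = charDegree χ := by
    unfold charDegree
    simp only [map_one]
  rw [hd]
  exact h.2

theorem sigFix_comp (e : T ≃* S) {χ : S → ℂ} (h : H601.K4.SigFix χ) : H601.K4.SigFix (fun t => χ (e t)) := by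
  intro k h2 h3 t
  show χ (e (t ^ k)) = χ (e t)
  rw [map_pow]
  refine h k (fun s hs => ?_) (fun s hs => ?_) (e t)
  · have h4 := congrArg e (h2 (e.symm s) (by rwa [MulEquiv.orderOf_eq]))
    rwa [map_pow, map_pow, e.apply_symm_apply] at h4
  · have h4 := congrArg e (h3 (e.symm s) (by rwa [MulEquiv.orderOf_eq]))
    rwa [map_pow, e.apply_symm_apply] at h4

theorem good_comp (e : T ≃* S) {χ : S → ℂ} (h : H601.K4.Good χ) : H601.K4.Good (fun t => χ (e t)) where
  odd := oddIrr_comp e h.odd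
  sig := sigFix_comp e h.sig
  b0 := by
    intro M hM hi
    have : M.IsPrime := hM.2.1.isPrime
    have h1 := h.b0 M hM h.odd.1
    exact (Cfsg.Agent.H133.PB.mem_principalBlock_comp e.toMonoidHom e.surjective h1 :)

/-- **Transport.** -/
theorem good5_of_equiv (e : T ≃* S) (h : H601.K4.Good5 S) : H601.K4.Good5 T := by
  obtain ⟨χ, h1, h2⟩ := h
  refine ⟨fun i t => χ i (e t), fun i j hij => h1 ?_, fun i => good_comp e (h2 i)⟩
  funext s
  have := congrFun hij (e.symm s)
  simpa using this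

theorem odd5_of_equiv (e : T ≃* S) (h : H601.K4.Odd5 S) : H601.K4.Odd5 T := by
  obtain ⟨χ, h1, h2⟩ := h
  refine ⟨fun i t => χ i (e t), fun i j hij => h1 ?_, fun i => oddIrr_comp e (h2 i)⟩
  funext s
  have := congrFun hij (e.symm s)
  simpa using this

end Cfsg.Agent.H740.K4
end

-- part: H740/K4/Four
section
set_option linter.all false
open scoped Cfsg.Agent.FastGrp

/-!
# Four good characters and an element of odd order (helper740)

* `good_of_mem` : the members of odd degree of the principal 2-block fixed by the cubing automorphism are `Good`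
  (independence of the maximal ideal, S0902);
* `good5_of_four` : four different good characters and an element `t` of odd order such that the sum of their
  (integral) values at `t` is odd give `Good5`;
* `zero_of_dvd` : a character of `p`-defect zero vanishes at the elements of order divisible by `p`.
-/

set_option autoImplicit false

open scoped ComplexConjugate
open Cfsg Cfsg.Agent.Characters.Core Cfsg.Agent.H618.Sigma Cfsg.Agent.Blocks.Local

namespace Cfsg.Agent.H740.K4

universe u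

variable {G : Type u} [Group G] {k : ℕ}

theorem inB0_of_mem [Finite G] {M : Ideal AlgInt} (hM : IsPModular 2 M) {χ : IrrCharacter G}
    (h : χ ∈ principalBlock M G) : H601.K4.InB0 (χ : G → ℂ) := by
  have : Fact (Nat.Prime 2) := ⟨Nat.prime_two⟩
  intro M' hM' h'
  intro g
  obtain ⟨r, hr, hr2⟩ := S0902.result 2 M hM ⟨fun _ => 1, Cfsg.Agent.Blocks.Basic.isIrrCharacter_one⟩ χ h M' hM' g
  refine ⟨r, 1, hr, fun h1 => hM'.2.1.ne_top ((Ideal.eq_top_iff_one _).2 h1), ?_⟩
  rw [hr2]
  simp

theorem good_of_mem [Finite G] {M : Ideal AlgInt} (hM : IsPModular 2 M) (hk : Cube G k) (χ : OddB M G)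
    (h : sigB hk M χ = χ) : H601.K4.Good ((χ.1 : IrrCharacter G) : G → ℂ) where
  odd := oddIrr_of χ.1.2 χ.2.2
  sig := sigFix_of hk ((sigB_eq_iff hk χ).1 h)
  b0 := inB0_of_mem hM χ.2.1

theorem good5_of_card [Finite G] {M : Ideal AlgInt} (hM : IsPModular 2 M) (hk : Cube G k)
    (h : 5 ≤ Nat.card {χ : OddB M G // sigB hk M χ = χ}) : H601.K4.Good5 G := by
  have : Finite {χ : OddB M G // sigB hk M χ = χ} := inferInstance
  have := Fintype.ofFinite {χ : OddB M G // sigB hk M χ = χ}
  rw [Nat.card_eq_fintype_card] at h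
  obtain ⟨f⟩ : Nonempty (Fin 5 ↪ {χ : OddB M G // sigB hk M χ = χ}) := by
    apply Function.Embedding.nonempty_of_card_le
    rwa [Fintype.card_fin]
  refine ⟨fun i => (((f i).1.1 : IrrCharacter G) : G → ℂ), fun i j hij => ?_, fun i => good_of_mem hM hk (f i).1 (f i).2⟩
  apply f.injective
  apply Subtype.ext
  apply Subtype.ext
  exact Subtype.ext hij

/-- **Four good characters with an odd sum of values at an element of odd order.** -/
theorem good5_of_four [Finite G] (hev : Even (Nat.card G)) {χ : Fin 4 → G → ℂ} (hinj : Function.Injective χ)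
    (hg : ∀ i, H601.K4.Good (χ i)) {t : G} (ht : Odd (orderOf t)) {z : Fin 4 → ℤ} (hz : ∀ i, χ i t = z i)
    (hodd : Odd (∑ i, z i)) : H601.K4.Good5 G := by
  classical
  obtain ⟨M, hM⟩ := Cfsg.Agent.Blocks.ExistsModular.exists_isPModular Nat.prime_two
  have : M.IsPrime := hM.2.1.isPrime
  obtain ⟨k, hk⟩ := exists_cube G
  have := Fintype.ofFinite (OddB M G)
  apply good5_of_card hM hk
  by_contra hlt
  push Not at hlt
  let c : Fin 4 → OddB M G := fun i => ⟨⟨χ i, (hg i).odd.1⟩, (hg i).b0 M hM (hg i).odd.1, odd_iff.2 (hg i).odd.2⟩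
  have hcinj : Function.Injective c := by
    intro i j hij
    apply hinj
    exact congrArg (fun x : OddB M G => ((x.1 : IrrCharacter G) : G → ℂ)) hij
  have hcf : ∀ i, sigB hk M (c i) = c i := fun i => (sigB_eq_iff hk (c i)).2 fun g => (hg i).sig k hk.two hk.odd g
  have h1 := sum_fixed_principal hM hk hev ht
  have h2 : (Finset.univ.filter fun χ : OddB M G => sigB hk M χ = χ) = Finset.univ.image c := by
    symm
    apply Finset.eq_of_subset_of_card_le
    · intro x hx
      rw [Finset.mem_image] at hx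
      obtain ⟨i, -, rfl⟩ := hx
      exact Finset.mem_filter.2 ⟨Finset.mem_univ _, hcf i⟩
    · rw [Finset.card_image_of_injective _ hcinj, Finset.card_univ, Fintype.card_fin]
      rw [Nat.card_eq_fintype_card, Fintype.card_subtype] at hlt
      omega
  rw [h2, Finset.sum_image fun i _ j _ h => hcinj h] at h1
  have hchar := charP_resField hM
  have h3 : ∀ i : Fin 4, redC M (((c i).1 : G → ℂ) t) = ((z i : ℤ) : ResField M) := by
    intro i
    have : ((c i).1 : G → ℂ) t = ((z i : ℤ) : ℂ) := hz i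
    rw [this, redC_intCast]
  rw [Finset.sum_congr rfl fun i _ => h3 i, ← Int.cast_sum] at h1
  have h4 : ((2 : ℕ) : ℤ) ∣ ∑ i, z i := (CharP.intCast_eq_zero_iff (ResField M) 2 _).1 h1
  rw [← Int.not_even_iff_odd] at hodd
  exact hodd (even_iff_two_dvd.2 (by exact_mod_cast h4))

/-- Characters of defect zero vanish. -/
theorem zero_of_dvd [Finite G] {p n : ℕ} (hp : p.Prime) (hn : p ^ n ∣ Nat.card G) (hn' : ¬ p ^ (n + 1) ∣ Nat.card G)
    {χ : G → ℂ} (hχ : IsIrrCharacter G χ) {d : ℕ} (hd : χ 1 = d) (hdvd : p ^ n ∣ d) {x : G} (hx : p ∣ orderOf x) :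
    χ x = 0 := by
  obtain ⟨m, ρ, hρ, rfl⟩ := hχ
  have := hρ
  refine S0165.result ρ p n hp hn hn' ?_ x hx
  rw [Representation.char_one] at hd
  have h1 : Module.finrank ℂ (Fin m → ℂ) = d := by exact_mod_cast hd
  rw [h1]
  exact hdvd

/-- **Three rational characters of odd degrees, of `p`-defect zero for an odd prime `p` dividing the order.** -/
theorem good5_of_defect_zero [Finite G] (hev : Even (Nat.card G)) {p n : ℕ} (hp : p.Prime) (hp2 : Odd p) (hn0 : n ≠ 0)
    (hn : p ^ n ∣ Nat.card G) (hn' : ¬ p ^ (n + 1) ∣ Nat.card G) {χ : Fin 3 → G → ℂ} {d : Fin 3 → ℕ}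
    (hχ : ∀ i, IsIrrCharacter G (χ i)) (hd : ∀ i, χ i 1 = d i) (hq : ∀ i g, ∃ q : ℚ, χ i g = q)
    (hodd : ∀ i, Odd (d i)) (hdvd : ∀ i, p ^ n ∣ d i) (h1 : ∀ i, d i ≠ 1) (hinj : Function.Injective d) :
    H601.K4.Good5 G := by
  have : Fact p.Prime := ⟨hp⟩
  obtain ⟨x, hx⟩ := exists_prime_orderOf_dvd_card' (G := G) p ((dvd_pow_self p hn0).trans hn)
  refine good5_of_four hev (χ := Fin.cons (fun _ => 1) χ) (t := x) (z := Fin.cons 1 fun _ => 0) ?_ ?_ ?_ ?_ ?_
  · rw [Fin.cons_injective_iff]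
    constructor
    · rintro ⟨i, hi⟩
      apply h1 i
      have h2 := hd i
      rw [hi] at h2
      have h3 : (1 : ℂ) = ((d i : ℕ) : ℂ) := h2
      exact_mod_cast h3.symm
    · intro i j hij
      apply hinj
      have h2 := hd i
      rw [hij, hd j] at h2
      exact_mod_cast h2.symm
  · intro i
    refine Fin.cases ?_ (fun i => ?_) i
    · exact good_one'
    · rw [Fin.cons_succ]
      refine good_of_rat (hχ i) (hq i) ?_
      rw [Cfsg.Agent.Blocks.Basic.charDegree_of_eq (hd i)]
      exact hodd i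
  · rw [hx]
    exact hp2
  · intro i
    refine Fin.cases ?_ (fun i => ?_) i
    · rw [Fin.cons_zero, Fin.cons_zero]
      simp
    · rw [Fin.cons_succ, Fin.cons_succ, Int.cast_zero]
      exact zero_of_dvd hp hn hn' (hχ i) (hd i) (hdvd i) (by rw [hx])
  · rw [Fin.sum_univ_succ]
    simp only [Fin.cons_zero, Fin.cons_succ, Finset.sum_const_zero, add_zero]
    exact odd_one

end Cfsg.Agent.H740.K4

private theorem dce_53e7bf302e2f : _root_.True := by
  try have : _root_.True := by simp only [_root_.Cfsg.Agent.H618.Sigma.sigB.congr_simp]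
  exact _root_.True.intro
end

-- part: H307/K4/Parity
section
set_option linter.all false
open scoped Cfsg.Agent.FastGrp

/-!
# The `σ`-fixed parity lemma on a subgroup of odd order (helper307, TEAM K4)

`U ≤ S` of odd order, `ψ` an irreducible character of `U`, `|S|` even: the sum over the `Good` characters `χ` of `S` of
the multiplicities `[χ_U, ψ]` is even.

* `even_sum` : for the members of odd degree of the principal 2-block fixed by the cubing automorphism;
* `even_sum_good` : the same over the set of the `Good` characters;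
* `good5_of_four` : four `Good` characters with an odd sum of the multiplicities give `Good5`.
-/

set_option autoImplicit false

open scoped ComplexConjugate
open Cfsg Cfsg.Agent.Characters.Core Cfsg.Agent.H618.Sigma Cfsg.Agent.Blocks.Local

namespace Cfsg.Agent.H307.K4

universe u

variable {S : Type u} [Group S] {k : ℕ}

/-- **Parity on a subgroup of odd order.** -/
theorem even_sum [Finite S] {M : Ideal AlgInt} [M.IsPrime] (hM : IsPModular 2 M) (hk : Cube S k)
    [Fintype (OddB M S)] [DecidableEq (OddB M S)] (hev : Even (Nat.card S)) (U : Subgroup S) [Fintype U]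
    (hU : Odd (Nat.card U)) {ψ : U → ℂ} (hψ : IsIrrCharacter U ψ) (m : IrrCharacter S → ℕ)
    (hm : ∀ χ : IrrCharacter S, classInner (fun u : U => (χ : S → ℂ) u) ψ = m χ) :
    Even (∑ χ : OddB M S with sigB hk M χ = χ, m χ.1) := by
  have hchar := charP_resField hM
  have hψi : ∀ u : U, MemLocalRing M (conj (ψ u)) := fun u => by
    rw [← isCharacter_apply_inv (isIrr_isCharacter hψ)]
    exact memLocalRing_irr (⟨ψ, hψ⟩ : IrrCharacter U) _
  -- the multiplicities times the order
  have h1 : ∀ χ : IrrCharacter S, ∑ u : U, (χ : S → ℂ) u * conj (ψ u) = ((Nat.card U * m χ : ℕ) : ℂ) := by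
    intro χ
    have h2 := hm χ
    rw [classInner_def] at h2
    have h3 : (Nat.card U : ℂ) ≠ 0 := card_ne_zero_complex
    push_cast
    rw [← h2, mul_inv_cancel_left₀ h3]
  have h4 : ∀ χ : IrrCharacter S, ∑ u : U, redC M ((χ : S → ℂ) u) * redC M (conj (ψ u)) =
      ((Nat.card U * m χ : ℕ) : ResField M) := by
    intro χ
    rw [← redC_natCast, ← h1, redC_sum fun u _ => memLocalRing_mul (memLocalRing_irr χ _) (hψi u)]
    exact Finset.sum_congr rfl fun u _ => (redC_mul (memLocalRing_irr χ _) (hψi u)).symm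
  have h5 : ∑ χ : OddB M S with sigB hk M χ = χ, ((Nat.card U * m χ.1 : ℕ) : ResField M) = 0 := by
    rw [Finset.sum_congr rfl fun (χ : OddB M S) _ => (h4 χ.1).symm, Finset.sum_comm]
    refine Finset.sum_eq_zero fun u _ => ?_
    rw [← Finset.sum_mul]
    have hodd : Odd (orderOf (u : S)) := by
      refine hU.of_dvd_nat ?_
      rw [Subgroup.orderOf_coe]
      exact orderOf_dvd_natCard u
    rw [sum_fixed_principal hM hk hev hodd, zero_mul]
  rw [← Nat.cast_sum, ← Finset.mul_sum, CharP.cast_eq_zero_iff (ResField M) 2] at h5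
  rw [even_iff_two_dvd]
  exact (Nat.Coprime.dvd_of_dvd_mul_left (Nat.coprime_two_left.2 hU) h5)

/-- **Parity on a subgroup of odd order, over the `Good` characters.** -/
theorem even_sum_good [Finite S] (hev : Even (Nat.card S)) (U : Subgroup S) [Fintype U]
    (hU : Odd (Nat.card U)) {ψ : U → ℂ} (hψ : IsIrrCharacter U ψ) (m : IrrCharacter S → ℕ)
    (hm : ∀ χ : IrrCharacter S, classInner (fun u : U => (χ : S → ℂ) u) ψ = m χ) (O : Finset (IrrCharacter S))
    (hO : ∀ χ, χ ∈ O ↔ H601.K4.Good (χ : S → ℂ)) : Even (∑ χ ∈ O, m χ) := by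
  classical
  obtain ⟨M, hM⟩ := Cfsg.Agent.Blocks.ExistsModular.exists_isPModular Nat.prime_two
  have : M.IsPrime := hM.2.1.isPrime
  obtain ⟨k, hk⟩ := H740.K4.exists_cube S
  have := Fintype.ofFinite (OddB M S)
  have h1 := even_sum hM hk hev U hU hψ m hm
  have h2 : ∑ χ : OddB M S with sigB hk M χ = χ, m χ.1 = ∑ χ ∈ O, m χ := by
    refine Finset.sum_bij (fun (χ : OddB M S) _ => χ.1) ?_ ?_ ?_ ?_
    · intro χ hχ
      rw [Finset.mem_filter] at hχ
      exact (hO _).2 (H740.K4.good_of_mem hM hk χ hχ.2)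
    · intro a _ b _ hab
      exact Subtype.ext hab
    · intro χ hχ
      have hg := (hO χ).1 hχ
      refine ⟨⟨χ, hg.b0 M hM χ.2, odd_iff.2 hg.odd.2⟩, ?_, rfl⟩
      rw [Finset.mem_filter]
      exact ⟨Finset.mem_univ _, (sigB_eq_iff hk _).2 fun g => hg.sig k hk.two hk.odd g⟩
    · intro χ _
      rfl
  rwa [h2] at h1

/-- **Four good characters with an odd sum of the multiplicities of `ψ`.** -/
theorem good5_of_four [Finite S] (hev : Even (Nat.card S)) (U : Subgroup S) [Fintype U]
    (hU : Odd (Nat.card U)) {ψ : U → ℂ} (hψ : IsIrrCharacter U ψ) {χ : Fin 4 → S → ℂ} (hinj : Function.Injective χ)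
    (hg : ∀ i, H601.K4.Good (χ i)) {a : Fin 4 → ℕ} (ha : ∀ i, classInner (fun u : U => χ i u) ψ = a i)
    (hodd : Odd (∑ i, a i)) : H601.K4.Good5 S := by
  classical
  have hfin : Finite (IrrCharacter S) := finite_irr
  have := Fintype.ofFinite (IrrCharacter S)
  choose m hm using fun χ : IrrCharacter S =>
    classInner_isNat (isCharacter_comp U.subtype (isIrr_isCharacter χ.2)) (isIrr_isCharacter hψ)
  let O : Finset (IrrCharacter S) := Finset.univ.filter fun χ => H601.K4.Good (χ : S → ℂ)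
  have hO : ∀ χ, χ ∈ O ↔ H601.K4.Good (χ : S → ℂ) := fun χ => by simp [O]
  have h1 := even_sum_good hev U hU hψ m hm O hO
  let c : Fin 4 → IrrCharacter S := fun i => ⟨χ i, (hg i).odd.1⟩
  have hcinj : Function.Injective c := fun i j hij => hinj (congrArg (fun x : IrrCharacter S => (x : S → ℂ)) hij)
  have hcm : ∀ i, m (c i) = a i := by
    intro i
    have h2 := hm (c i)
    have h3 := ha i
    have h4 : ((m (c i) : ℕ) : ℂ) = (a i : ℂ) := h2.symm.trans h3
    exact_mod_cast h4
  have hsub : Finset.univ.image c ⊆ O := by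
    intro x hx
    obtain ⟨i, -, rfl⟩ := Finset.mem_image.1 hx
    exact (hO _).2 (hg i)
  -- a fifth one
  obtain ⟨x, hx, hxc⟩ : ∃ x ∈ O, x ∉ Finset.univ.image c := by
    by_contra hcon
    push Not at hcon
    have h2 : Finset.univ.image c = O := Finset.Subset.antisymm hsub hcon
    rw [← h2, Finset.sum_image fun i _ j _ h => hcinj h] at h1
    simp only [hcm] at h1
    exact (Nat.not_even_iff_odd.2 hodd) h1
  refine ⟨Fin.cons (x : S → ℂ) χ, ?_, ?_⟩
  · rw [Fin.cons_injective_iff]
    refine ⟨?_, hinj⟩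
    rintro ⟨i, hi⟩
    apply hxc
    rw [Finset.mem_image]
    exact ⟨i, Finset.mem_univ _, Subtype.ext hi⟩
  · intro i
    refine Fin.cases ?_ (fun i => ?_) i
    · exact (hO x).1 hx
    · rw [Fin.cons_succ]
      exact hg i

end Cfsg.Agent.H307.K4
end
end
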